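import Groth.Agent.GrpField.Translate
import Groth.Agent.GoingDown.Dedekind
import Mathlib.AlgebraicGeometry.Fiber
import Mathlib.AlgebraicGeometry.Morphisms.Flat

/-!
# Every point of a group scheme is a product of two maximal points of its fibre
-/

universe u

open CategoryTheory CategoryTheory.Limits MonoidalCategory CartesianMonoidalCategory MonObj AlgebraicGeometry

namespace Groth.Agent.GrpMax

variable {S : Scheme.{u}} {G : Over S}

/-- a point without proper generisation in its fibre over the base -/
def IsMaxInFibre (g : G.left) : Prop := ∀ w : G.left, G.hom w = G.hom g → w ⤳ g → w = g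

/-- a point maximal in its fibre is the generic point of an irreducible component of the fibre -/
theorem IsMaxInFibre.closure_mem {g : G.left} (hg : IsMaxInFibre g) (s : S) (hs : G.hom g = s) :
    closure {(⟨g, hs⟩ : ↥(G.hom.base ⁻¹' {s}))} ∈ irreducibleComponents ↥(G.hom.base ⁻¹' {s}) := by
  let e := G.hom.fiberHomeo s
  let g' : ↥(G.hom.base ⁻¹' {s}) := ⟨g, hs⟩
  have hmax : GoingDown.IsMaximalPt (e.symm g') := by
    intro w hw
    have h2 : e w ⤳ g' := by
      have := hw.map e.continuous
      rwa [e.apply_symm_apply] at this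
    have h1 : (e w).1 ⤳ g := subtype_specializes_iff _ _ |>.1 h2
    have h3 : (e w).1 = g := hg _ (by rw [(e w).2]; exact hs.symm) h1
    exact e.eq_symm_apply.2 (Subtype.ext h3)
  have hc := GoingDown.closure_mem_irreducibleComponents hmax
  refine ⟨isIrreducible_singleton.closure, fun W hW hle => ?_⟩
  have hle' : closure {e.symm g'} ≤ e.symm '' W := by
    have h4 := Set.image_mono (f := e.symm) hle
    rwa [e.symm.image_closure, Set.image_singleton] at h4
  have h5 := hc.2 (hW.image e.symm e.symm.continuous.continuousOn) hle'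
  intro w hw
  have h6 := h5 ⟨w, hw, rfl⟩
  rw [← Set.image_singleton (f := e.symm), ← e.symm.image_closure] at h6
  exact e.symm.injective.mem_set_image.1 h6

/-- the image of a maximal point of a base change to a field is maximal in its fibre -/
theorem isMaxInFibre_fst {K : Type u} [Field K] (f : Spec (CommRingCat.of K) ⟶ S)
    (m : (G ⊗ Over.mk f).left) (hm : GoingDown.IsMaximalPt m) :
    IsMaxInFibre ((fst G (Over.mk f)).left m) := by
  let t := IsLocalRing.closedPoint K
  have : Subsingleton (Spec (CommRingCat.of K)) := inferInstanceAs (Subsingleton (PrimeSpectrum K))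
  have hrange : ∀ x : Spec (CommRingCat.of K), f x = f t := fun x => by rw [Subsingleton.elim x t]
  let g := (fst G (Over.mk f)).left m
  have hgm : G.hom g = f t := by
    rw [← Scheme.Hom.comp_apply, Over.w (fst G (Over.mk f)), ← Over.w (snd G (Over.mk f)),
      Scheme.Hom.comp_apply]
    exact hrange _
  intro w hw hwg
  have hw' : G.hom w = f t := hw.trans hgm
  obtain ⟨ρ, hρ⟩ : ∃ ρ : Spec (CommRingCat.of K) ⟶ Spec (S.residueField (f t)),
      ρ ≫ S.fromSpecResidueField (f t) = f :=
    ⟨Spec.map (S.descResidueField (S.stalkClosedPointTo f)), S.descResidueField_stalkClosedPointTo_fromSpecResidueField _ f⟩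
  let π : G.hom.fiber (f t) ⟶ Spec (S.residueField (f t)) := G.hom.fiberToSpecResidueField (f t)
  have hbig : IsPullback (fst G (Over.mk f)).left (snd G (Over.mk f)).left G.hom
      (ρ ≫ S.fromSpecResidueField (f t)) := by
    rw [hρ]; exact IsPullback.of_hasPullback G.hom f
  have hsmall : IsPullback (G.hom.fiberι (f t)) π G.hom (S.fromSpecResidueField (f t)) :=
    IsPullback.of_hasPullback _ _
  let q : (G ⊗ Over.mk f).left ⟶ G.hom.fiber (f t) := hsmall.lift (fst G (Over.mk f)).left
    ((snd G (Over.mk f)).left ≫ ρ) (by rw [hbig.w, Category.assoc])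
  have hqι : q ≫ G.hom.fiberι (f t) = (fst G (Over.mk f)).left := hsmall.lift_fst _ _ _
  have hsq : IsPullback q (snd G (Over.mk f)).left π ρ :=
    IsPullback.of_right (h₁₂ := G.hom.fiberι (f t)) (by rw [hqι]; exact hbig)
      (hsmall.lift_snd _ _ _) hsmall
  have : Subsingleton (Spec (S.residueField (f t))) := inferInstanceAs (Subsingleton (PrimeSpectrum _))
  have : Flat ρ := inferInstance
  have : Flat q := MorphismProperty.of_isPullback (P := @Flat) hsq.flip ‹Flat ρ›
  let e := G.hom.fiberHomeo (f t)
  let w' : ↥(G.hom.base ⁻¹' {f t}) := ⟨w, hw'⟩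
  have hspec : e.symm w' ⤳ q m := by
    refine (G.hom.fiberι (f t)).isEmbedding.isInducing.specializes_iff.1 ?_
    rw [Scheme.Hom.fiberι_fiberHomeo_symm, ← Scheme.Hom.comp_apply, hqι]
    exact hwg
  obtain ⟨m', hm', hqm'⟩ := Flat.generalizingMap q hspec
  obtain rfl := hm m' hm'
  change w = (fst G (Over.mk f)).left m'
  rw [← hqι, Scheme.Hom.comp_apply, hqm', Scheme.Hom.fiberι_fiberHomeo_symm]

/-- every point is a product of two points which are maximal in its fibre -/
theorem exists_mul_eq_maximal [GrpObj G] (x : G.left) :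
    ∃ z : (G ⊗ G).left, μ[G].left z = x ∧ IsMaxInFibre ((fst G G).left z) ∧
      IsMaxInFibre ((snd G G).left z) := by
  let f := G.left.fromSpecResidueField x ≫ G.hom
  let T : Over S := Over.mk f
  let p : T ⟶ G := Over.homMk (G.left.fromSpecResidueField x) rfl
  obtain ⟨w₀⟩ : Nonempty (G ⊗ T).left := ⟨(lift p (𝟙 T)).left
    (IsLocalRing.closedPoint (G.left.residueField x))⟩
  obtain ⟨m, hm, -⟩ := GoingDown.exists_maximalPt_specializes w₀
  let e := GrpField.trI p
  have hem : GoingDown.IsMaximalPt (GrpField.homeo e m) := by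
    intro w hw
    have h := hw.map (GrpField.homeo e).symm.continuous
    rw [Homeomorph.symm_apply_apply] at h
    have h' := congrArg (GrpField.homeo e) (hm _ h)
    rwa [Homeomorph.apply_symm_apply] at h'
  let T' : Over S := Over.mk ((G ⊗ T).left.fromSpecResidueField m ≫ (G ⊗ T).hom)
  let q : T' ⟶ G ⊗ T := Over.homMk ((G ⊗ T).left.fromSpecResidueField m) rfl
  let t' : T'.left := IsLocalRing.closedPoint ((G ⊗ T).left.residueField m)
  have hq : q.left t' = m := Scheme.fromSpecResidueField_apply m t'
  refine ⟨(lift (q ≫ fst G T) (q ≫ e.hom ≫ fst G T)).left t', ?_, ?_, ?_⟩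
  · rw [← Scheme.Hom.comp_apply, ← Over.comp_left, ← Hom.mul_def,
      show (q ≫ fst G T) * (q ≫ e.hom ≫ fst G T) = (q ≫ snd G T) ≫ p by
        simp [e, GrpField.trI, MonObj.comp_mul, GrpObj.comp_inv], Over.comp_left, Scheme.Hom.comp_apply]
    exact Scheme.fromSpecResidueField_apply x _
  · rw [← Scheme.Hom.comp_apply, ← Over.comp_left, lift_fst, Over.comp_left, Scheme.Hom.comp_apply, hq]
    exact isMaxInFibre_fst f m hm
  · rw [← Scheme.Hom.comp_apply, ← Over.comp_left, lift_snd, Over.comp_left, Over.comp_left,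
      Scheme.Hom.comp_apply, Scheme.Hom.comp_apply, hq]
    exact isMaxInFibre_fst f _ hem

end Groth.Agent.GrpMax
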